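import Mathlib.AlgebraicGeometry.Morphisms.ClosedImmersion
import Mathlib.AlgebraicGeometry.Sites.EtalePoint

/-!
# Finite sets of closed points

`exists_lift`: a finite set of closed points with separably closed residue fields of `T` is the image of a closed
immersion `Z ⟶ T` which lifts to every étale `U ⟶ T` whose image contains the points.
-/

set_option autoImplicit false
universe u
open CategoryTheory CategoryTheory.Limits AlgebraicGeometry Opposite

namespace Groth.Agent.Vancyc.H674.Points

variable {T U : Scheme.{u}}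

/-- The disjoint union of the spectra of the residue fields. -/
noncomputable abbrev pts (S : Finset T) : Scheme.{u} :=
  ∐ fun x : ↥S => Spec (T.residueField x.1)

/-- The morphism to `T`. -/
noncomputable abbrev toT (S : Finset T) : pts S ⟶ T :=
  Sigma.desc fun x : ↥S => T.fromSpecResidueField x.1

lemma toT_sigmaMk (S : Finset T) (x : ↥S) (p : Spec (T.residueField x.1)) :
    toT S (sigmaMk (fun x : ↥S => Spec (T.residueField x.1)) ⟨x, p⟩) = x.1 := by
  rw [sigmaMk_mk, ← Scheme.Hom.comp_apply, Sigma.ι_desc]
  exact Scheme.fromSpecResidueField_apply x.1 p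

lemma range_toT (S : Finset T) : Set.range (toT S) = S := by
  ext x
  constructor
  · rintro ⟨z, rfl⟩
    obtain ⟨⟨y, p⟩, rfl⟩ := (sigmaMk fun x : ↥S => Spec (T.residueField x.1)).surjective z
    rw [toT_sigmaMk]
    exact y.2
  · intro hx
    exact ⟨sigmaMk (fun x : ↥S => Spec (T.residueField x.1)) ⟨⟨x, hx⟩, default⟩,
      toT_sigmaMk S ⟨x, hx⟩ default⟩

lemma injective_toT (S : Finset T) : Function.Injective (toT S) := by
  intro z z' h
  obtain ⟨⟨y, p⟩, rfl⟩ := (sigmaMk fun x : ↥S => Spec (T.residueField x.1)).surjective z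
  obtain ⟨⟨y', p'⟩, rfl⟩ := (sigmaMk fun x : ↥S => Spec (T.residueField x.1)).surjective z'
  rw [toT_sigmaMk, toT_sigmaMk] at h
  obtain rfl : y = y' := Subtype.ext h
  have : p = p' := Subsingleton.elim _ _
  rw [this]

theorem isClosedImmersion_toT (S : Finset T) (hS : ∀ x ∈ S, IsClosed ({x} : Set T)) :
    IsClosedImmersion (toT S) := by
  have h1 : SurjectiveOnStalks (toT S) :=
    IsZariskiLocalAtSource.sigmaDesc (P := @SurjectiveOnStalks) fun x => inferInstance
  have h2 : Topology.IsClosedEmbedding (toT S) := by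
    refine Topology.IsClosedEmbedding.of_continuous_injective_isClosedMap (toT S).continuous
      (injective_toT S) fun A hA => ?_
    have hfin : (toT S '' A).Finite :=
      S.finite_toSet.subset ((Set.image_subset_range _ _).trans (range_toT S).subset)
    rw [← Set.biUnion_of_singleton (toT S '' A)]
    refine hfin.isClosed_biUnion fun x hx => hS x ?_
    have := (Set.image_subset_range _ _).trans (range_toT S).subset hx
    exact this
  exact { isClosedEmbedding := h2 }

/-- The section. -/
theorem exists_lift (S : Finset T) (hS : ∀ x ∈ S, IsClosed ({x} : Set T))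
    (hsc : ∀ x ∈ S, IsSepClosed (T.residueField x)) (φ : U ⟶ T) [Etale φ]
    (h : ∀ x ∈ S, ∃ y : U, φ y = x) :
    ∃ (Z : Scheme.{u}) (t : Z ⟶ T) (_ : IsClosedImmersion t) (σ : Z ⟶ U),
      σ ≫ φ = t ∧ Set.range t = S := by
  have h1 : ∀ x : ↥S, ∃ l : Spec (T.residueField x.1) ⟶ U, l ≫ φ = T.fromSpecResidueField x.1 := by
    intro x
    obtain ⟨y, hy⟩ := h x.1 x.2
    have := hsc x.1 x.2
    obtain ⟨l, hl, -⟩ := Scheme.exists_fac_of_etale_of_isSepClosed φ
      (Ω := T.residueField x.1) (T.fromSpecResidueField x.1) y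
      (hy.trans (Scheme.fromSpecResidueField_apply x.1 _).symm)
    exact ⟨l, hl⟩
  choose l hl using h1
  refine ⟨pts S, toT S, isClosedImmersion_toT S hS, Sigma.desc l, ?_, range_toT S⟩
  apply Sigma.hom_ext
  intro x
  rw [Sigma.ι_desc_assoc, Sigma.ι_desc, hl]

end Groth.Agent.Vancyc.H674.Points
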