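import Groth.Agent.Vancyc.H674.Clopen
import Groth.Agent.Vancyc.H674.Points
import Groth.Agent.Vancyc.H682.Desc
import Groth.Agent.Vancyc.H682.LocEt
import Groth.Agent.Vancyc.H682.UnitEt
import Groth.Agent.Vancyc.H675.SmoothPt
import Groth.Agent.Vancyc.H678.SmoothW
import Groth.Agent.CurvesA.ClosedPtSep
import Groth.Agent.Etrest.ConstBasic
import Groth.Agent.S3095

/-!
# The global principle for the inertia action

`galH_eq_id`: for `X` proper over a strictly henselian trait, `σ` acts trivially on `H^q(X_Ω, ℤ/N)` if it acts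
trivially on `i^* R j_* ℤ/N` étale locally at the singular points of the closed fibre.
-/

set_option autoImplicit false
universe u
open CategoryTheory CategoryTheory.Limits AlgebraicGeometry Opposite DerivedCategory Pretriangulated

namespace Groth.Agent.Vancyc.H674.Glob

open EtCoh Groth.Agent.Sga4h.LPull Groth.Agent.Sga4h.TotCat Groth.Agent.Sga4h.UnivTri
open Groth.Agent.Vancyc.H682.SingleAbs Groth.Agent.Vancyc.H682.Single
open Groth.Agent.Vancyc.H682.Act Groth.Agent.Vancyc.H682.GalD Groth.Agent.Vancyc.H682.Loc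
open Groth.Agent.Vancyc.H682.KillObj Groth.Agent.Vancyc.H682.Inj Groth.Agent.Vancyc.H682.Desc
open Groth.Agent.Vancyc.H682.LocEt Groth.Agent.Vancyc.H682.UnitEt
open Groth.Agent.Vancyc.H674.Clopen VanCyc

attribute [local instance] HasDerivedCategory.standard

section abstract

variable {V X X₀ : Scheme.{u}}

/-- If the endomorphism of `R j_* j^* F` is the identity on the closed fibre then `s` acts trivially on
cohomology. -/
theorem hpullVia_eq_self_of_closed (s : V ⟶ V) (j : V ⟶ X) (w : s ≫ j = j) (F : Ab X) (q : ℕ)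
    {M : D X} {u : ofS ((pull j).obj F) ⟶ ⟨X, M⟩} (hub : u.base = j) (hu : IsU u) {a : M ⟶ M}
    (ha : IsAct u (sHat s j w F) a) {N : ℕ} (hN : 0 < N) (hF : Kill N F)
    (i : X₀ ⟶ X) [IsClosedImmersion i]
    (hV : ∀ G : Ab X, EtCoh.IsTorsion G → IsZero ((pull i).obj G) →
      ∀ p : ℕ, Subsingleton (EtCoh.H X G p))
    (h : (L i).map a = 𝟙 _) : EtCore.HpullVia s j j w F q = AddMonoidHom.id _ := by
  refine hpullVia_eq_self s j w F q hub hu ha fun ψ => ?_
  have hMG : M.IsGE 0 := isGE_of_isU hu 0 (isGE_S0 _)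
  have hK : Kill N M := kill_of_isU hu ((hF.map (pull j)).map (singleFunctor _ 0))
  have hMG' : DerivedCategory.IsGE (M⟦(q : ℤ)⟧) (-(q : ℤ)) :=
    TStructure.t.isGE_shift M 0 q (-(q : ℤ)) (by lia)
  have h1 : (L i).map (a⟦(q : ℤ)⟧') = 𝟙 _ := by
    have h2 := ((L i).commShiftIso (q : ℤ)).hom.naturality a
    have h3 : (L i ⋙ shiftFunctor (D X₀) (q : ℤ)).map a = 𝟙 _ := by
      rw [Functor.comp_map, h]
      exact CategoryTheory.Functor.map_id _ _
    rw [h3, Category.comp_id] at h2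
    have h4 : (L i).map (a⟦(q : ℤ)⟧') ≫ ((L i).commShiftIso (q : ℤ)).hom.app M =
        𝟙 _ ≫ ((L i).commShiftIso (q : ℤ)).hom.app M := by
      rw [Category.id_comp]
      exact h2
    exact (cancel_mono _).1 h4
  have h5 : ψ ≫ (a⟦(q : ℤ)⟧' - 𝟙 _) = 0 := by
    refine eq_zero_of_pull i hV _ (-(q : ℤ)) hN (hK.map (shiftFunctor _ (q : ℤ))) _ ?_
    rw [Functor.map_comp, Functor.map_sub, h1, CategoryTheory.Functor.map_id, sub_self, comp_zero]
  rw [Preadditive.comp_sub, Category.comp_id] at h5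
  exact sub_eq_zero.1 h5

lemma L_map_eq_id_iff {X Y Z : Scheme.{u}} {f : X ⟶ Y} {g : Y ⟶ Z} {k : X ⟶ Z} (w : f ≫ g = k)
    {M : D Z} (a : M ⟶ M) : (L f).map ((L g).map a) = 𝟙 _ ↔ (L k).map a = 𝟙 _ := by
  rw [L_map_comp w]
  constructor
  · intro h
    have h1 : (Lcomp w).hom.app M ≫ (L k).map a = (Lcomp w).hom.app M := by
      rw [← cancel_mono ((Lcomp w).inv.app M), Category.assoc, h]
      exact ((Lcomp w).hom_inv_id_app M).symm
    rw [← cancel_epi ((Lcomp w).hom.app M), h1]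
    exact (Category.comp_id _).symm
  · intro h
    rw [h, Category.id_comp]
    exact (Lcomp w).hom_inv_id_app M

end abstract

section trait

variable {R K Ω : Type u} [CommRing R] [IsLocalRing R] [Field K] [Algebra R K] [Field Ω] [Algebra K Ω]
    [Algebra R Ω] [IsScalarTower R K Ω] {U X : Scheme.{u}} {f : X ⟶ Spec (CommRingCat.of R)}
    {σ : Ω ≃ₐ[K] Ω} {N : ℕ}

lemma isPullback_spMap (q : U ⟶ X) (f : X ⟶ Spec (CommRingCat.of R)) :
    IsPullback (spMap q f) (icl R (q ≫ f)) (icl R f) q := by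
  have h1 : IsPullback (icl R f) (pullback.snd f (toSk R)) f (toSk R) := IsPullback.of_hasPullback _ _
  have h2 : IsPullback (icl R (q ≫ f)) (spMap q f ≫ pullback.snd f (toSk R)) (q ≫ f)
      (toSk R) := by
    have h3 : spMap q f ≫ pullback.snd f (toSk R) = pullback.snd (q ≫ f) (toSk R) := by
      rw [spMap, pullback.map, pullback.lift_snd, Category.comp_id]
    rw [h3]
    exact IsPullback.of_hasPullback _ _
  exact IsPullback.of_right h2.flip (icl_spMap q f).symm h1.flip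

/-- Local triviality in terms of the action on the closed fibre. -/
lemma map_spMap_eq_id (q : U ⟶ X) [Etale q] (h : LocTriv (q ≫ f) σ N) {M : D X}
    {u : ofS ((pull (jA R f Ω)).obj (const X (ZMod N))) ⟶ ⟨X, M⟩}
    (hub : u.base = jA R f Ω) (hu : IsU u) {a : M ⟶ M}
    (ha : IsAct u (sHat (galGeom f σ) (jA R f Ω) (galGeom_jA f σ) (const X (ZMod N))) a) :
    (L (spMap q f)).map ((L (icl R f)).map a) = 𝟙 _ := by
  obtain ⟨M', u', hub', hu'⟩ :=
    exists_isU (ofS ((pull (jA R (q ≫ f) Ω)).obj (const U (ZMod N)))) (jA R (q ≫ f) Ω)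
  obtain ⟨a', ha'⟩ := exists_isAct (s := sHat (galGeom (q ≫ f) σ) (jA R (q ≫ f) Ω)
    (galGeom_jA (q ≫ f) σ) (const U (ZMod N))) hu' (by rw [hub']; exact galGeom_jA (q ≫ f) σ)
  obtain ⟨φ, hφ⟩ := exists_act_iso (galGeom_jA f σ) (q := q) (galGeom_jA (q ≫ f) σ)
    (isPullback_fibMap q f) (galGeom_fibMap q f σ) (ZMod N) hub hu ha hub' hu' ha'
  have h1 : (L q).map a ≫ φ.symm.hom = φ.symm.hom ≫ a' := by
    rw [Iso.symm_hom, Iso.eq_inv_comp, ← Category.assoc, ← hφ, Category.assoc, φ.hom_inv_id,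
      Category.comp_id]
  have h2 := map_eq_id_of_iso (icl R (q ≫ f)) φ.symm h1 (h M' u' hub' hu' a' ha')
  rw [L_map_eq_id_iff (icl_spMap q f)] at h2
  rw [L_map_eq_id_iff (rfl : spMap q f ≫ icl R f = spMap q f ≫ icl R f)]
  exact h2

lemma f_icl (f : X ⟶ Spec (CommRingCat.of R)) (x : ↥(spFib R f)) :
    f (icl R f x) = IsLocalRing.closedPoint R := by
  rw [← Scheme.Hom.comp_apply, show icl R f ≫ f = _ from pullback.condition, Scheme.Hom.comp_apply]
  exact Groth.Agent.Vancyc.H675.SmoothPt.toSk_apply R _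

theorem killedBy_const (X : Scheme.{u}) (N : ℕ) : EtCoh.KilledBy N (EtCoh.const X (ZMod N)) :=
  Etrest.ConstBasic.killedBy_const X (ZMod N) N (fun m => by
    rw [nsmul_eq_mul, ZMod.natCast_self, zero_mul])

theorem kill_const (X : Scheme.{u}) (N : ℕ) : Kill N (EtCoh.const X (ZMod N)) :=
  (EtpbcB.TorsionBasic.killedBy_iff _ _).1 (killedBy_const X N)

theorem isLocallyConstant_const (X : Scheme.{u}) (M : Type) [AddCommGroup M] :
    EtRest.IsLocallyConstant (EtCoh.const X M) :=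
  ⟨PUnit, fun _ => EtCoh.top X, fun x => ⟨PUnit.unit, x, rfl⟩, fun _ => ⟨ULift.{u + 1} M, inferInstance,
    ⟨(Etrest.ConstBasic.constOver (EtCoh.top X)).app _⟩⟩⟩

/-- Acyclicity at the smooth points of the closed fibre. -/
theorem acycAt_of_smooth [HenselianLocalRing R] [IsSepClosed (IsLocalRing.ResidueField R)] [IsSepClosed Ω]
    (f : X ⟶ Spec (CommRingCat.of R)) (W : X.Opens) (hW : Smooth (W.ι ≫ f)) (hN : IsUnit (N : R))
    {k : Type u} [Field k] [IsSepClosed k] (ζ : Spec (CommRingCat.of k) ⟶ spFib R f)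
    (hζ : icl R f (ζ default) ∈ W) :
    AcycAt (ζ ≫ icl R f) (jA R f Ω) (const X (ZMod N)) := by
  have hc : IsPullback (fibStr R f Ω) (jA R f Ω) (toS R Ω) f :=
    (IsPullback.of_hasPullback f (toS R Ω)).flip
  have h := Groth.Agent.Vancyc.H675.SmoothPt.acycPt_of_smooth_nhd R (toS R Ω) f (jA R f Ω)
    (fibStr R f Ω) hc W hW N hN (const X (ZMod N)) (isLocallyConstant_const X _) (killedBy_const X N)
    (ζ ≫ icl R f) (by rw [Scheme.Hom.comp_apply]; exact hζ)
    (by rw [Scheme.Hom.comp_apply]; exact f_icl f _)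
  exact ⟨h.1, h.2⟩

/-- Local triviality at the singular points implies local triviality. -/
theorem locTriv_of_local [IsNoetherianRing R] [HenselianLocalRing R]
    [IsSepClosed (IsLocalRing.ResidueField R)] [IsSepClosed Ω]
    (f : X ⟶ Spec (CommRingCat.of R)) [LocallyOfFiniteType f] [Flat f] (n : ℕ)
    (Sing : Finset ↥(spFib R f)) (hSc : ∀ x ∈ Sing, IsClosed ({x} : Set ↥(spFib R f)))
    (U : (spFib R f).Opens) (hU : ∀ x : ↥(spFib R f), x ∉ Sing → x ∈ U)
    (hUs : SmoothOfRelativeDimension n (U.ι ≫ spStr R f)) (hN : IsUnit (N : R)) (σ : Ω ≃ₐ[K] Ω)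
    (hloc : ∀ x ∈ Sing, ∃ (V : Scheme.{u}) (g : V ⟶ X) (_ : Etale g) (y : V),
      g y = icl R f x ∧ LocTriv (g ≫ f) σ N) : LocTriv f σ N := by
  intro M u hub hu a ha
  obtain ⟨W, hW, hWS⟩ := H678.SmoothW.exists_opens_smooth_of_sing R f n Sing U hU hUs
  -- the unit
  obtain ⟨η', hη'b, hη'⟩ := hu.exists_desc (jHat (jA R f Ω) (const X (ZMod N))) (𝟙 X)
    (by rw [hub]; exact Category.comp_id _)
  obtain ⟨η, rfl⟩ := exists_v (x := ⟨X, M⟩) η' hη'b
  have hηa : η ≫ a = η := ha.unit hu hη' (sHat_jHat _ _ _ _)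
  -- an étale neighbourhood of the singular points
  obtain ⟨U', φ, hφe, hφS, hφ0⟩ := exists_etale ((L (icl R f)).map a - 𝟙 _) Sing (by
    intro x hx
    obtain ⟨V, g, hg, y, hy, hL⟩ := hloc x hx
    have hP := isPullback_spMap g f
    have hsp : Etale (spMap g f) := MorphismProperty.of_isPullback (P := @Etale) hP.flip hg
    obtain ⟨z, hz1, hz2⟩ : ∃ z : ↥(spFib R (g ≫ f)), spMap g f z = x ∧ icl R (g ≫ f) z = y := by
      obtain ⟨z, hz1, hz2⟩ := Scheme.Pullback.exists_preimage_pullback (f := icl R f) (g := g) x y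
        hy.symm
      refine ⟨hP.isoPullback.inv z, ?_, ?_⟩
      · rw [← Scheme.Hom.comp_apply, hP.isoPullback_inv_fst, hz1]
      · rw [← Scheme.Hom.comp_apply, hP.isoPullback_inv_snd, hz2]
    refine ⟨_, spMap g f, hsp, z, hz1, ?_⟩
    have h1 := map_spMap_eq_id g hL hub hu ha
    rw [Functor.map_sub, h1, CategoryTheory.Functor.map_id, sub_self])
  have hφ : (L φ).map ((L (icl R f)).map a) = 𝟙 _ := by
    rw [Functor.map_sub, CategoryTheory.Functor.map_id, sub_eq_zero] at hφ0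
    exact hφ0
  obtain ⟨Z, t, ht, τ, hτ, hrange⟩ := Points.exists_lift Sing hSc (fun x hx =>
    CurvesA.ClosedPtSep.isSepClosed_residueField (spStr R f) x (hSc x hx)) φ hφS
  -- the complement
  have hSo : IsOpen ((Sing : Set ↥(spFib R f))ᶜ) := by
    rw [isOpen_compl_iff, ← Set.biUnion_of_singleton (Sing : Set ↥(spFib R f))]
    exact Sing.finite_toSet.isClosed_biUnion fun x hx => hSc x hx
  let W₀ : (spFib R f).Opens := ⟨(Sing : Set ↥(spFib R f))ᶜ, hSo⟩
  have hcov : ∀ q : ↥(spFib R f), q ∈ Set.range t ∨ q ∈ Set.range W₀.ι := by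
    intro q
    rw [hrange, Scheme.Opens.range_ι]
    exact em _
  have hdisj : Disjoint (Set.range t) (Set.range W₀.ι) := by
    rw [hrange, Scheme.Opens.range_ι]
    exact disjoint_compl_right
  have hη : IsIso ((L W₀.ι).map ((L (icl R f)).map η)) := by
    have h1 : IsIso ((L (W₀.ι ≫ icl R f)).map η) := by
      refine isIso_L_unit_of_stalks _ hub hu hη' _ fun k _ _ ζ => ?_
      rw [← Category.assoc]
      refine acycAt_of_smooth f W hW hN (ζ ≫ W₀.ι) (hWS _ ?_)
      rw [Scheme.Hom.comp_apply]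
      have h2 : W₀.ι (ζ default) ∈ W₀ := by
        have : W₀.ι (ζ default) ∈ Set.range W₀.ι := ⟨_, rfl⟩
        rwa [Scheme.Opens.range_ι] at this
      exact h2
    have h2 := (NatIso.isIso_map_iff (Lcomp (rfl : W₀.ι ≫ icl R f = W₀.ι ≫ icl R f)) η).2 h1
    exact h2
  have hMG : M.IsGE 0 := isGE_of_isU hu 0 (isGE_S0 _)
  have i1 := isGE_L (icl R f) M 0
  have i2 : DerivedCategory.IsLE (S0 (const X (ZMod N))) 0 := isLE_S0 _
  have i3 := isLE_L (icl R f) (S0 (const X (ZMod N))) 0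
  exact eq_id_of_etale t W₀.ι hcov hdisj φ τ hτ ((L (icl R f)).map η) hη ((L (icl R f)).map a)
    (by rw [← Functor.map_comp, hηa]) hφ

end trait

/-- The global principle. -/
theorem galH_eq_id (R K Ω : Type u) [CommRing R] [IsDomain R] [IsDiscreteValuationRing R]
    (hR : EtCoh.IsStrictlyHenselianLocalRing R) [Field K] [Algebra R K] [Field Ω] [Algebra K Ω]
    [IsSepClosure K Ω] [Algebra R Ω] [IsScalarTower R K Ω]
    {X : Scheme.{u}} (f : X ⟶ Spec (CommRingCat.of R)) [IsProper f] [Flat f] (n : ℕ)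
    (Sing : Finset ↥(spFib R f)) (hSc : ∀ x ∈ Sing, IsClosed ({x} : Set ↥(spFib R f)))
    (U : (spFib R f).Opens) (hU : ∀ x : ↥(spFib R f), x ∉ Sing → x ∈ U)
    (hUs : SmoothOfRelativeDimension n (U.ι ≫ spStr R f))
    (N : ℕ) (hN : IsUnit (N : R)) (σ : Ω ≃ₐ[K] Ω) [PreservesFiniteLimits (EtCoh.pull (galGeom f σ))]
    (hloc : ∀ x ∈ Sing, ∃ (V : Scheme.{u}) (g : V ⟶ X) (_ : Etale g) (y : V),
      g y = icl R f x ∧ LocTriv (g ≫ f) σ N) (q : ℕ) :
    galH f σ (EtCoh.const X (ZMod N)) q = AddMonoidHom.id _ := by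
  obtain ⟨hH, hS⟩ := hR
  have hΩ : IsSepClosed Ω := IsSepClosure.sep_closed K
  have h := locTriv_of_local f n Sing hSc U hU hUs hN σ hloc
  have hN0 : 0 < N := by
    rcases Nat.eq_zero_or_pos N with rfl | h0
    · rw [Nat.cast_zero, isUnit_zero_iff] at hN
      exact absurd hN zero_ne_one
    · exact h0
  obtain ⟨M, u, hub, hu⟩ := exists_isU (ofS ((pull (jA R f Ω)).obj (const X (ZMod N)))) (jA R f Ω)
  obtain ⟨a, ha⟩ := exists_isAct (s := sHat (galGeom f σ) (jA R f Ω) (galGeom_jA f σ)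
    (const X (ZMod N))) hu (by rw [hub]; exact galGeom_jA f σ)
  have hcl : IsClosedImmersion (icl R f) := by
    have : IsClosedImmersion (toSk R) :=
      IsClosedImmersion.spec_of_surjective _ IsLocalRing.residue_surjective
    infer_instance
  refine hpullVia_eq_self_of_closed (galGeom f σ) (jA R f Ω) (galGeom_jA f σ) _ q hub hu ha hN0
    (kill_const X N) (icl R f) (fun G hG hG0 p => ?_) (h M u hub hu a ha)
  have h1 : Subsingleton (EtCoh.H (spFib R f) ((pull (icl R f)).obj G) p) := by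
    have h2 : (𝟙 ((pull (icl R f)).obj G)) = 0 := hG0.eq_of_src _ _
    refine ⟨fun x y => ?_⟩
    have key : ∀ x : EtCoh.H (spFib R f) ((pull (icl R f)).obj G) p, x = 0 := by
      intro x
      have h3 := Abelian.Ext.comp_mk₀_id x
      rw [h2, Abelian.Ext.mk₀_zero, Abelian.Ext.comp_zero] at h3
      exact h3.symm
    rw [key x, key y]
  exact (Groth.Agent.S3095.result R X f G hG p).1.subsingleton

end Groth.Agent.Vancyc.H674.Glob
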