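import Groth.Agent.Sga4h.TotLoc

/-!
# Morphisms of derived categories on disjoint unions

* `eq_zero_of_clopen`: a morphism of `D(T)` which vanishes on the two parts of a clopen decomposition is zero;
* `exists_etale`: finitely many étale neighbourhoods on which an endomorphism is the identity may be replaced by
  a single one.
-/

set_option autoImplicit false
universe u
open CategoryTheory CategoryTheory.Limits AlgebraicGeometry Opposite DerivedCategory Pretriangulated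

namespace Groth.Agent.Vancyc.H674.Clopen

open EtCoh Groth.Agent.Sga4h.LPull Groth.Agent.Sga4h.TotCat Groth.Agent.Sga4h.UnivTri

attribute [local instance] HasDerivedCategory.standard

variable {T T₁ T₂ : Scheme.{u}}

/-- Morphisms in the derived category are detected on a clopen decomposition. -/
theorem eq_zero_of_clopen (w₁ : T₁ ⟶ T) (w₂ : T₂ ⟶ T) [IsOpenImmersion w₁] [IsOpenImmersion w₂]
    (hcov : ∀ q : T, q ∈ Set.range w₂ ∨ q ∈ Set.range w₁)
    (hdisj : Disjoint (Set.range w₂) (Set.range w₁)) {C M : D T} (a : C ⟶ M)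
    (h₁ : (L w₁).map a = 0) (h₂ : (L w₂).map a = 0) : a = 0 := by
  obtain ⟨N, μ, hμ, hU⟩ := exists_isU (⟨T₁, (L w₁).obj M⟩ : Tot) w₁
  obtain ⟨ε, rfl⟩ := exists_arr μ hμ
  have hCar : IsIso ε := imm_of_isOpenImmersion w₁ _ _ _ rfl hU
  obtain ⟨ν, hν⟩ := (hU M).2 (𝟙 _)
  have hν' : (L w₁).map ν ≫ ε = 𝟙 _ := hν
  have hνi : IsIso ((L w₁).map ν) := by
    have : (L w₁).map ν = inv ε := by rw [← cancel_mono ε, hν', IsIso.inv_hom_id]
    rw [this]
    infer_instance
  obtain ⟨F, f, h, hT⟩ := distinguished_cocone_triangle₁ ν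
  have hF : IsZero ((L w₁).obj F) :=
    (Triangle.isZero₁_iff_isIso₂ _ ((L w₁).map_distinguished _ hT)).2 hνi
  have hN : IsZero ((L w₂).obj N) := hU.isZero_of_disjoint (y := ⟨T, N⟩) w₂ hdisj.symm
  have hfi : IsIso ((L w₂).map f) :=
    (Triangle.isZero₃_iff_isIso₁ _ ((L w₂).map_distinguished _ hT)).1 hN
  have h1 : a ≫ ν = 0 := by
    apply (hU C).1
    change (L w₁).map (a ≫ ν) ≫ ε = (L w₁).map 0 ≫ ε
    rw [Functor.map_comp, h₁, zero_comp, Functor.map_zero]
  obtain ⟨g, hg⟩ := Triangle.coyoneda_exact₂ _ hT a h1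
  have hg' : a = g ≫ f := hg
  have hg2 : (L w₂).map g = 0 := by
    have h2 : (L w₂).map g ≫ (L w₂).map f = 0 := by
      rw [← Functor.map_comp, ← hg', h₂]
    exact (cancel_mono ((L w₂).map f)).1 (h2.trans zero_comp.symm)
  have hUt : IsU (car (⟨T, F⟩ : Tot) w₂) :=
    isU_of_isC (isC_car _ _) (imm_of_isOpenImmersion w₂) w₁ hcov hdisj hF
  have hgz : g = 0 := by
    apply (hUt C).1
    change (L w₂).map g ≫ 𝟙 _ = (L w₂).map 0 ≫ 𝟙 _
    rw [hg2, Functor.map_zero]
  rw [hg', hgz, zero_comp]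

/-- Morphisms in the derived category of a disjoint union are detected on the two parts. -/
theorem eq_zero_of_coprod {C M : D (T₁ ⨿ T₂)} (a : C ⟶ M)
    (h₁ : (L (coprod.inl : T₁ ⟶ T₁ ⨿ T₂)).map a = 0)
    (h₂ : (L (coprod.inr : T₂ ⟶ T₁ ⨿ T₂)).map a = 0) : a = 0 := by
  have hc := isCompl_range_inl_inr T₁ T₂
  refine eq_zero_of_clopen coprod.inl coprod.inr (fun q => ?_) hc.1.symm a h₁ h₂
  have : q ∈ (⊤ : Set ↥(T₁ ⨿ T₂)) := trivial
  rw [← hc.sup_eq_top] at this
  exact this.symm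

lemma L_map_comp {X Y Z : Scheme.{u}} {f : X ⟶ Y} {g : Y ⟶ Z} {k : X ⟶ Z} (w : f ≫ g = k)
    {C M : D Z} (a : C ⟶ M) :
    (L f).map ((L g).map a) = (Lcomp w).hom.app C ≫ (L k).map a ≫ (Lcomp w).inv.app M := by
  have h := (Lcomp w).hom.naturality a
  rw [← Category.assoc, ← h, Category.assoc, Iso.hom_inv_id_app]
  exact (Category.comp_id _).symm

lemma L_map_comp_zero {X Y Z : Scheme.{u}} {f : X ⟶ Y} {g : Y ⟶ Z} {k : X ⟶ Z} (w : f ≫ g = k)
    {C M : D Z} (a : C ⟶ M) (h : (L k).map a = 0) : (L f).map ((L g).map a) = 0 := by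
  rw [L_map_comp w, h, zero_comp, comp_zero]

/-- An étale morphism out of a coproduct. -/
lemma etale_coprodDesc (φ₁ : T₁ ⟶ T) (φ₂ : T₂ ⟶ T) [Etale φ₁] [Etale φ₂] :
    Etale (coprod.desc φ₁ φ₂) := by
  refine IsZariskiLocalAtSource.of_openCover (P := @Etale) (coprodOpenCover.{u, u} T₁ T₂) ?_
  rintro (_ | _)
  · change Etale (coprod.inl ≫ coprod.desc φ₁ φ₂)
    rw [coprod.inl_desc]
    infer_instance
  · change Etale (coprod.inr ≫ coprod.desc φ₁ φ₂)
    rw [coprod.inr_desc]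
    infer_instance

/-- Finitely many étale neighbourhoods killing `a` may be replaced by a single one. -/
theorem exists_etale {C M : D T} (a : C ⟶ M) (S : Finset T)
    (h : ∀ x ∈ S, ∃ (V : Scheme.{u}) (φ : V ⟶ T) (_ : Etale φ) (y : V), φ y = x ∧ (L φ).map a = 0) :
    ∃ (U : Scheme.{u}) (φ : U ⟶ T) (_ : Etale φ), (∀ x ∈ S, ∃ y : U, φ y = x) ∧
      (L φ).map a = 0 := by
  classical
  induction S using Finset.induction_on with
  | empty =>
    have : IsEmpty ((⊥ : T.Opens) : Scheme.{u}) := ⟨fun p => p.2.elim⟩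
    refine ⟨(⊥ : T.Opens), (⊥ : T.Opens).ι, inferInstance, fun x hx => absurd hx (by simp), ?_⟩
    exact (isZero_D_of_isEmpty _).eq_of_src _ _
  | insert x S hx ih =>
    obtain ⟨U, φ, _, hU, h0⟩ := ih fun y hy => h y (Finset.mem_insert_of_mem hy)
    obtain ⟨V, ψ, _, y, hy, h1⟩ := h x (Finset.mem_insert_self x S)
    refine ⟨U ⨿ V, coprod.desc φ ψ, etale_coprodDesc φ ψ, fun z hz => ?_, ?_⟩
    · rcases Finset.mem_insert.1 hz with rfl | hz
      · refine ⟨(coprod.inr : V ⟶ U ⨿ V) y, ?_⟩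
        rw [← Scheme.Hom.comp_apply, coprod.inr_desc, hy]
      · obtain ⟨w, hw⟩ := hU z hz
        refine ⟨(coprod.inl : U ⟶ U ⨿ V) w, ?_⟩
        rw [← Scheme.Hom.comp_apply, coprod.inl_desc, hw]
    · exact eq_zero_of_coprod _ (L_map_comp_zero (coprod.inl_desc φ ψ) a h0)
        (L_map_comp_zero (coprod.inr_desc φ ψ) a h1)

end Groth.Agent.Vancyc.H674.Clopen
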