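import Groth.Agent.Vancyc.H700.Main0
import Groth.Agent.Vancyc.H699.Dim0

/-!
# The action of inertia in relative dimension `0`

The case `n = 0` of `S4000`: the automorphisms act on `H^0(X_Ω, ℤ/N)` by commuting involutions.
-/

set_option autoImplicit false
universe u v
open CategoryTheory CategoryTheory.Limits AlgebraicGeometry

namespace Groth.Agent.Vancyc.H674.Zero

open Groth.Agent.Vancyc.H700

/-- Injective maps preserving a map with fibres of cardinality `≤ 2` are commuting involutions. -/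
theorem comb {Y : Type u} {T : Type v} [Finite Y] (ρ : Y → T) (h2 : ∀ x, Nat.card {y // ρ y = x} ≤ 2)
    (g h : Y → Y) (hg : Function.Injective g) (hh : Function.Injective h) (hgρ : ∀ y, ρ (g y) = ρ y)
    (hhρ : ∀ y, ρ (h y) = ρ y) : (∀ y, g (g y) = y) ∧ ∀ y, g (h y) = h (g y) := by
  have inv : ∀ (g : Y → Y), Function.Injective g → (∀ y, ρ (g y) = ρ y) → ∀ y, g (g y) = y := by
    intro g hg hgρ y
    by_cases h1 : g y = y
    · rw [h1, h1]
    · rcases Comb0.eq_or_eq ρ (h2 (ρ y)) (y₁ := y) (y₂ := g y) (y := g (g y)) (fun h => h1 h.symm) rfl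
        (hgρ y) ((hgρ _).trans (hgρ y)) with h3 | h3
      · exact h3
      · exact absurd (hg h3) h1
  have fix : ∀ (g h : Y → Y), Function.Injective h → (∀ y, ρ (g y) = ρ y) → (∀ y, ρ (h y) = ρ y) →
      ∀ y, h y = y → h (g y) = g y := by
    intro g h hh hgρ hhρ y hy
    by_cases h1 : g y = y
    · rw [h1, hy]
    · rcases Comb0.eq_or_eq ρ (h2 (ρ y)) (y₁ := y) (y₂ := g y) (y := h (g y)) (fun h => h1 h.symm) rfl
        (hgρ y) ((hhρ _).trans (hgρ y)) with h3 | h3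
      · exact absurd (hh (h3.trans hy.symm)) h1
      · exact h3
  refine ⟨inv g hg hgρ, fun y => ?_⟩
  by_cases h1 : h y = y
  · rw [h1, fix g h hh hgρ hhρ y h1]
  · by_cases h3 : g y = y
    · rw [h3, fix h g hg hhρ hgρ y h3]
    · have h4 : g y = h y := by
        rcases Comb0.eq_or_eq ρ (h2 (ρ y)) (y₁ := y) (y₂ := h y) (y := g y) (fun h => h1 h.symm) rfl
          (hhρ y) (hgρ y) with h5 | h5
        · exact absurd h5 h3
        · exact h5
      rw [← h4, inv g hg hgρ, h4, inv h hh hhρ]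

/-- The case `n = 0`. -/
theorem main (R K Ω : Type u) [CommRing R] [IsDomain R] [IsDiscreteValuationRing R]
    (hR : EtCoh.IsStrictlyHenselianLocalRing R) [Field K] [Algebra R K] [Field Ω] [Algebra K Ω]
    [IsSepClosure K Ω] [Algebra R Ω] [IsScalarTower R K Ω]
    {X : Scheme.{u}} (f : X ⟶ Spec (CommRingCat.of R)) [IsProper f] [Flat f]
    (hη : SmoothOfRelativeDimension 0 (VanCyc.fibStr R f K))
    (Sing : Finset ↥(VanCyc.spFib R f)) (hSc : ∀ x ∈ Sing, IsClosed ({x} : Set ↥(VanCyc.spFib R f)))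
    (hSq : ∀ x ∈ Sing, VanCyc.IsOrdQuadPt (VanCyc.resHom (VanCyc.spStr R f) x) 0)
    (U : (VanCyc.spFib R f).Opens) (hU : ∀ x : ↥(VanCyc.spFib R f), x ∉ Sing → x ∈ U)
    (hUs : SmoothOfRelativeDimension 0 (U.ι ≫ VanCyc.spStr R f))
    (N : ℕ) (σ τ : Ω ≃ₐ[K] Ω) [PreservesFiniteLimits (EtCoh.pull (VanCyc.galGeom f σ))]
    [PreservesFiniteLimits (EtCoh.pull (VanCyc.galGeom f τ))] :
    (VanCyc.galH f σ (EtCoh.const X (ZMod N)) 0).comp (VanCyc.galH f σ (EtCoh.const X (ZMod N)) 0) =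
        AddMonoidHom.id _ ∧
      (VanCyc.galH f σ (EtCoh.const X (ZMod N)) 0).comp (VanCyc.galH f τ (EtCoh.const X (ZMod N)) 0) =
        (VanCyc.galH f τ (EtCoh.const X (ZMod N)) 0).comp (VanCyc.galH f σ (EtCoh.const X (ZMod N)) 0) := by
  have hΩ : IsSepClosed Ω := IsSepClosure.sep_closed K
  obtain ⟨hfin, r, hr⟩ := H699.Dim0.geo R K Ω hR f hη Sing hSc hSq U hU hUs
  obtain ⟨E, hE⟩ := Main0.exists_equiv (K := K) (Ω := Ω) f N
  let ρ : ↥(VanCyc.fib R f Ω) → ↥(VanCyc.spFib R f) := fun y => r ((VanCyc.jA R f Ω).base y)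
  have hρ : ∀ (σ : Ω ≃ₐ[K] Ω) y, ρ (VanCyc.galGeom f σ y) = ρ y := fun σ y => by
    dsimp only [ρ]
    congr 1
    change (VanCyc.galGeom f σ ≫ VanCyc.jA R f Ω) y = _
    rw [VanCyc.galGeom_jA]
  obtain ⟨h1, h2⟩ := comb ρ (fun x => (hr x).1) (VanCyc.galGeom f σ) (VanCyc.galGeom f τ)
    (Main0.galGeom_injective f σ) (Main0.galGeom_injective f τ) (hρ σ) (hρ τ)
  constructor
  · ext1 a
    apply E.injective
    funext y
    rw [AddMonoidHom.comp_apply, hE, hE, h1]
    rfl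
  · ext1 a
    apply E.injective
    funext y
    rw [AddMonoidHom.comp_apply, AddMonoidHom.comp_apply, hE, hE, hE, hE, h2]

end Groth.Agent.Vancyc.H674.Zero
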